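import Cfsg.Agent.Lib.SporRecognition.Cert.SuzG24V.LowerT

/-! Generated coset-enumeration certificate: Suz over <nonzero vectors of GF(4)^6>, 4095 cosets. -/

set_option autoImplicit false
set_option maxRecDepth 20000
set_option linter.all false
set_option Elab.async false

namespace CfsgLib.SporRecognition.Cert.SuzG24V

open CfsgLib.SporRecognition.CosetCert

def mark4Lit : Nat := 0x78000000000000000000000000000000000000000000000000000000000000000
noncomputable def mark4 (u : Nat) : Nat := Nat.land (Nat.shiftRight mark4Lit (Nat.mul 1 u)) 1
def rk4Lit : Nat := 0x70000000000000000000000000000000000000000000000000000000000000000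
noncomputable def rk4 (u : Nat) : Nat := Nat.land (Nat.shiftRight rk4Lit (Nat.mul 1 u)) 1
def via4Lit : Nat := 0xa000000000000000000000000000000000000000000000000000000000000000000000000000000000000000000000000000000000000000000000000000000000000000000000000000000000000000000000000000000000000000000000000
noncomputable def via4 (u : Nat) : Nat := Nat.land (Nat.shiftRight via4Lit (Nat.mul 3 u)) 7
def src4Lit : Nat := 0xff0ff0ff000000000000000000000000000000000000000000000000000000000000000000000000000000000000000000000000000000000000000000000000000000000000000000000000000000000000000000000000000000000000000000000000000000000000000000000000000000000000000000000000000000000000000000000000000000000000000000000000000000000000000000000000000000000000000000000000000000000000000000000000000000000000000000000000000000000000000000000000000000000000000000000000000000000000000000000000000000000000000000000000000000000000000000000000000000000000000000000000000000000000000000000000000000000000000000000000000000000000000000000000000000000000000000000000000000000000000000000000000000000000000000000000000000000000000000000000000000000000000000000000000000000000000000000000000000000000000000000000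
noncomputable def src4 (u : Nat) : Nat := Nat.land (Nat.shiftRight src4Lit (Nat.mul 12 u)) 4095
theorem reach4_c0 : allPow 4095 (reachStep [L4g0, L4g1, L4g2, L4g3, L4g4, L4g5] 255 mark4 rk4 via4 src4 4095) 10 0 = true := by decide +kernel
theorem reach4_c1 : allPow 4095 (reachStep [L4g0, L4g1, L4g2, L4g3, L4g4, L4g5] 255 mark4 rk4 via4 src4 4095) 10 1024 = true := by decide +kernel
theorem reach4_c2 : allPow 4095 (reachStep [L4g0, L4g1, L4g2, L4g3, L4g4, L4g5] 255 mark4 rk4 via4 src4 4095) 10 2048 = true := by decide +kernel
theorem reach4_c3 : allPow 4095 (reachStep [L4g0, L4g1, L4g2, L4g3, L4g4, L4g5] 255 mark4 rk4 via4 src4 4095) 10 3072 = true := by decide +kernel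
theorem reach4 : allBelow 12 4095 (reachStep [L4g0, L4g1, L4g2, L4g3, L4g4, L4g5] 255 mark4 rk4 via4 src4 4095) = true :=
  allBelow_of_upto (hi := 4096)
    (Upto.trans (mid := 2048) (Upto.trans (mid := 1024) ((Upto.of_pow reach4_c0 (Nat.le_refl _)) : Upto _ _ 0 (0 + 2 ^ 10))
    ((Upto.of_pow reach4_c1 (Nat.le_refl _)) : Upto _ _ 1024 (1024 + 2 ^ 10)))
    (Upto.trans (mid := 3072) ((Upto.of_pow reach4_c2 (Nat.le_refl _)) : Upto _ _ 2048 (2048 + 2 ^ 10))
    ((Upto.of_pow reach4_c3 (Nat.le_refl _)) : Upto _ _ 3072 (3072 + 2 ^ 10))))
    (by decide) (by decide)

theorem count4 : countLab 12 4095 mark4 1 = 4 := by decide +kernel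

end CfsgLib.SporRecognition.Cert.SuzG24V
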