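import Cfsg.Agent.Lib.SporRecognition.Cert.SuzG24V.LowerT

/-! Generated coset-enumeration certificate: Suz over <nonzero vectors of GF(4)^6>, 4095 cosets. -/

set_option autoImplicit false
set_option maxRecDepth 20000
set_option linter.all false
set_option Elab.async false

namespace CfsgLib.SporRecognition.Cert.SuzG24V

open CfsgLib.SporRecognition.CosetCert

theorem L1eq0_c0 : allPow 4095 (fun u => Nat.beq (L1g0 u) (trace [L0g2, L0g2, L0g1, L0g1, L0g0, L0g1, L0g0, L0g3, L0g0, L0g1, L0g2, L0g1, L0g0, L0g3, L0g3, L0g3, L0g2] u)) 9 0 = true := by decide +kernel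
theorem L1eq0_c1 : allPow 4095 (fun u => Nat.beq (L1g0 u) (trace [L0g2, L0g2, L0g1, L0g1, L0g0, L0g1, L0g0, L0g3, L0g0, L0g1, L0g2, L0g1, L0g0, L0g3, L0g3, L0g3, L0g2] u)) 9 512 = true := by decide +kernel
theorem L1eq0_c2 : allPow 4095 (fun u => Nat.beq (L1g0 u) (trace [L0g2, L0g2, L0g1, L0g1, L0g0, L0g1, L0g0, L0g3, L0g0, L0g1, L0g2, L0g1, L0g0, L0g3, L0g3, L0g3, L0g2] u)) 9 1024 = true := by decide +kernel
theorem L1eq0_c3 : allPow 4095 (fun u => Nat.beq (L1g0 u) (trace [L0g2, L0g2, L0g1, L0g1, L0g0, L0g1, L0g0, L0g3, L0g0, L0g1, L0g2, L0g1, L0g0, L0g3, L0g3, L0g3, L0g2] u)) 9 1536 = true := by decide +kernel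
theorem L1eq0_c4 : allPow 4095 (fun u => Nat.beq (L1g0 u) (trace [L0g2, L0g2, L0g1, L0g1, L0g0, L0g1, L0g0, L0g3, L0g0, L0g1, L0g2, L0g1, L0g0, L0g3, L0g3, L0g3, L0g2] u)) 9 2048 = true := by decide +kernel
theorem L1eq0_c5 : allPow 4095 (fun u => Nat.beq (L1g0 u) (trace [L0g2, L0g2, L0g1, L0g1, L0g0, L0g1, L0g0, L0g3, L0g0, L0g1, L0g2, L0g1, L0g0, L0g3, L0g3, L0g3, L0g2] u)) 9 2560 = true := by decide +kernel
theorem L1eq0_c6 : allPow 4095 (fun u => Nat.beq (L1g0 u) (trace [L0g2, L0g2, L0g1, L0g1, L0g0, L0g1, L0g0, L0g3, L0g0, L0g1, L0g2, L0g1, L0g0, L0g3, L0g3, L0g3, L0g2] u)) 9 3072 = true := by decide +kernel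
theorem L1eq0_c7 : allPow 4095 (fun u => Nat.beq (L1g0 u) (trace [L0g2, L0g2, L0g1, L0g1, L0g0, L0g1, L0g0, L0g3, L0g0, L0g1, L0g2, L0g1, L0g0, L0g3, L0g3, L0g3, L0g2] u)) 9 3584 = true := by decide +kernel
theorem L1eq0 : allBelow 12 4095 (fun u => Nat.beq (L1g0 u) (trace [L0g2, L0g2, L0g1, L0g1, L0g0, L0g1, L0g0, L0g3, L0g0, L0g1, L0g2, L0g1, L0g0, L0g3, L0g3, L0g3, L0g2] u)) = true :=
  allBelow_of_upto (hi := 4096)
    (Upto.trans (mid := 2048) (Upto.trans (mid := 1024) (Upto.trans (mid := 512) ((Upto.of_pow L1eq0_c0 (Nat.le_refl _)) : Upto _ _ 0 (0 + 2 ^ 9))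
    ((Upto.of_pow L1eq0_c1 (Nat.le_refl _)) : Upto _ _ 512 (512 + 2 ^ 9)))
    (Upto.trans (mid := 1536) ((Upto.of_pow L1eq0_c2 (Nat.le_refl _)) : Upto _ _ 1024 (1024 + 2 ^ 9))
    ((Upto.of_pow L1eq0_c3 (Nat.le_refl _)) : Upto _ _ 1536 (1536 + 2 ^ 9))))
    (Upto.trans (mid := 3072) (Upto.trans (mid := 2560) ((Upto.of_pow L1eq0_c4 (Nat.le_refl _)) : Upto _ _ 2048 (2048 + 2 ^ 9))
    ((Upto.of_pow L1eq0_c5 (Nat.le_refl _)) : Upto _ _ 2560 (2560 + 2 ^ 9)))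
    (Upto.trans (mid := 3584) ((Upto.of_pow L1eq0_c6 (Nat.le_refl _)) : Upto _ _ 3072 (3072 + 2 ^ 9))
    ((Upto.of_pow L1eq0_c7 (Nat.le_refl _)) : Upto _ _ 3584 (3584 + 2 ^ 9)))))
    (by decide) (by decide)

theorem L1eq1_c0 : allPow 4095 (fun u => Nat.beq (L1g1 u) (trace [L0g1, L0g0, L0g3, L0g0, L0g3, L0g3, L0g2, L0g3, L0g2, L0g3, L0g2, L0g1, L0g0, L0g3, L0g2, L0g1, L0g2] u)) 9 0 = true := by decide +kernel
theorem L1eq1_c1 : allPow 4095 (fun u => Nat.beq (L1g1 u) (trace [L0g1, L0g0, L0g3, L0g0, L0g3, L0g3, L0g2, L0g3, L0g2, L0g3, L0g2, L0g1, L0g0, L0g3, L0g2, L0g1, L0g2] u)) 9 512 = true := by decide +kernel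
theorem L1eq1_c2 : allPow 4095 (fun u => Nat.beq (L1g1 u) (trace [L0g1, L0g0, L0g3, L0g0, L0g3, L0g3, L0g2, L0g3, L0g2, L0g3, L0g2, L0g1, L0g0, L0g3, L0g2, L0g1, L0g2] u)) 9 1024 = true := by decide +kernel
theorem L1eq1_c3 : allPow 4095 (fun u => Nat.beq (L1g1 u) (trace [L0g1, L0g0, L0g3, L0g0, L0g3, L0g3, L0g2, L0g3, L0g2, L0g3, L0g2, L0g1, L0g0, L0g3, L0g2, L0g1, L0g2] u)) 9 1536 = true := by decide +kernel
theorem L1eq1_c4 : allPow 4095 (fun u => Nat.beq (L1g1 u) (trace [L0g1, L0g0, L0g3, L0g0, L0g3, L0g3, L0g2, L0g3, L0g2, L0g3, L0g2, L0g1, L0g0, L0g3, L0g2, L0g1, L0g2] u)) 9 2048 = true := by decide +kernel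
theorem L1eq1_c5 : allPow 4095 (fun u => Nat.beq (L1g1 u) (trace [L0g1, L0g0, L0g3, L0g0, L0g3, L0g3, L0g2, L0g3, L0g2, L0g3, L0g2, L0g1, L0g0, L0g3, L0g2, L0g1, L0g2] u)) 9 2560 = true := by decide +kernel
theorem L1eq1_c6 : allPow 4095 (fun u => Nat.beq (L1g1 u) (trace [L0g1, L0g0, L0g3, L0g0, L0g3, L0g3, L0g2, L0g3, L0g2, L0g3, L0g2, L0g1, L0g0, L0g3, L0g2, L0g1, L0g2] u)) 9 3072 = true := by decide +kernel
theorem L1eq1_c7 : allPow 4095 (fun u => Nat.beq (L1g1 u) (trace [L0g1, L0g0, L0g3, L0g0, L0g3, L0g3, L0g2, L0g3, L0g2, L0g3, L0g2, L0g1, L0g0, L0g3, L0g2, L0g1, L0g2] u)) 9 3584 = true := by decide +kernel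
theorem L1eq1 : allBelow 12 4095 (fun u => Nat.beq (L1g1 u) (trace [L0g1, L0g0, L0g3, L0g0, L0g3, L0g3, L0g2, L0g3, L0g2, L0g3, L0g2, L0g1, L0g0, L0g3, L0g2, L0g1, L0g2] u)) = true :=
  allBelow_of_upto (hi := 4096)
    (Upto.trans (mid := 2048) (Upto.trans (mid := 1024) (Upto.trans (mid := 512) ((Upto.of_pow L1eq1_c0 (Nat.le_refl _)) : Upto _ _ 0 (0 + 2 ^ 9))
    ((Upto.of_pow L1eq1_c1 (Nat.le_refl _)) : Upto _ _ 512 (512 + 2 ^ 9)))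
    (Upto.trans (mid := 1536) ((Upto.of_pow L1eq1_c2 (Nat.le_refl _)) : Upto _ _ 1024 (1024 + 2 ^ 9))
    ((Upto.of_pow L1eq1_c3 (Nat.le_refl _)) : Upto _ _ 1536 (1536 + 2 ^ 9))))
    (Upto.trans (mid := 3072) (Upto.trans (mid := 2560) ((Upto.of_pow L1eq1_c4 (Nat.le_refl _)) : Upto _ _ 2048 (2048 + 2 ^ 9))
    ((Upto.of_pow L1eq1_c5 (Nat.le_refl _)) : Upto _ _ 2560 (2560 + 2 ^ 9)))
    (Upto.trans (mid := 3584) ((Upto.of_pow L1eq1_c6 (Nat.le_refl _)) : Upto _ _ 3072 (3072 + 2 ^ 9))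
    ((Upto.of_pow L1eq1_c7 (Nat.le_refl _)) : Upto _ _ 3584 (3584 + 2 ^ 9)))))
    (by decide) (by decide)

theorem L1eq2_c0 : allPow 4095 (fun u => Nat.beq (L1g2 u) (trace [L0g2, L0g2, L0g2, L0g3, L0g0, L0g3, L0g2, L0g3, L0g3, L0g0, L0g3, L0g0, L0g3, L0g0, L0g3] u)) 9 0 = true := by decide +kernel
theorem L1eq2_c1 : allPow 4095 (fun u => Nat.beq (L1g2 u) (trace [L0g2, L0g2, L0g2, L0g3, L0g0, L0g3, L0g2, L0g3, L0g3, L0g0, L0g3, L0g0, L0g3, L0g0, L0g3] u)) 9 512 = true := by decide +kernel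
theorem L1eq2_c2 : allPow 4095 (fun u => Nat.beq (L1g2 u) (trace [L0g2, L0g2, L0g2, L0g3, L0g0, L0g3, L0g2, L0g3, L0g3, L0g0, L0g3, L0g0, L0g3, L0g0, L0g3] u)) 9 1024 = true := by decide +kernel
theorem L1eq2_c3 : allPow 4095 (fun u => Nat.beq (L1g2 u) (trace [L0g2, L0g2, L0g2, L0g3, L0g0, L0g3, L0g2, L0g3, L0g3, L0g0, L0g3, L0g0, L0g3, L0g0, L0g3] u)) 9 1536 = true := by decide +kernel
theorem L1eq2_c4 : allPow 4095 (fun u => Nat.beq (L1g2 u) (trace [L0g2, L0g2, L0g2, L0g3, L0g0, L0g3, L0g2, L0g3, L0g3, L0g0, L0g3, L0g0, L0g3, L0g0, L0g3] u)) 9 2048 = true := by decide +kernel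
theorem L1eq2_c5 : allPow 4095 (fun u => Nat.beq (L1g2 u) (trace [L0g2, L0g2, L0g2, L0g3, L0g0, L0g3, L0g2, L0g3, L0g3, L0g0, L0g3, L0g0, L0g3, L0g0, L0g3] u)) 9 2560 = true := by decide +kernel
theorem L1eq2_c6 : allPow 4095 (fun u => Nat.beq (L1g2 u) (trace [L0g2, L0g2, L0g2, L0g3, L0g0, L0g3, L0g2, L0g3, L0g3, L0g0, L0g3, L0g0, L0g3, L0g0, L0g3] u)) 9 3072 = true := by decide +kernel
theorem L1eq2_c7 : allPow 4095 (fun u => Nat.beq (L1g2 u) (trace [L0g2, L0g2, L0g2, L0g3, L0g0, L0g3, L0g2, L0g3, L0g3, L0g0, L0g3, L0g0, L0g3, L0g0, L0g3] u)) 9 3584 = true := by decide +kernel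
theorem L1eq2 : allBelow 12 4095 (fun u => Nat.beq (L1g2 u) (trace [L0g2, L0g2, L0g2, L0g3, L0g0, L0g3, L0g2, L0g3, L0g3, L0g0, L0g3, L0g0, L0g3, L0g0, L0g3] u)) = true :=
  allBelow_of_upto (hi := 4096)
    (Upto.trans (mid := 2048) (Upto.trans (mid := 1024) (Upto.trans (mid := 512) ((Upto.of_pow L1eq2_c0 (Nat.le_refl _)) : Upto _ _ 0 (0 + 2 ^ 9))
    ((Upto.of_pow L1eq2_c1 (Nat.le_refl _)) : Upto _ _ 512 (512 + 2 ^ 9)))
    (Upto.trans (mid := 1536) ((Upto.of_pow L1eq2_c2 (Nat.le_refl _)) : Upto _ _ 1024 (1024 + 2 ^ 9))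
    ((Upto.of_pow L1eq2_c3 (Nat.le_refl _)) : Upto _ _ 1536 (1536 + 2 ^ 9))))
    (Upto.trans (mid := 3072) (Upto.trans (mid := 2560) ((Upto.of_pow L1eq2_c4 (Nat.le_refl _)) : Upto _ _ 2048 (2048 + 2 ^ 9))
    ((Upto.of_pow L1eq2_c5 (Nat.le_refl _)) : Upto _ _ 2560 (2560 + 2 ^ 9)))
    (Upto.trans (mid := 3584) ((Upto.of_pow L1eq2_c6 (Nat.le_refl _)) : Upto _ _ 3072 (3072 + 2 ^ 9))
    ((Upto.of_pow L1eq2_c7 (Nat.le_refl _)) : Upto _ _ 3584 (3584 + 2 ^ 9)))))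
    (by decide) (by decide)

theorem L1eq3_c0 : allPow 4095 (fun u => Nat.beq (L1g3 u) (trace [L0g0, L0g1, L0g2, L0g3, L0g0, L0g0, L0g0, L0g3, L0g2, L0g2, L0g3, L0g3, L0g2, L0g1, L0g2, L0g2] u)) 9 0 = true := by decide +kernel
theorem L1eq3_c1 : allPow 4095 (fun u => Nat.beq (L1g3 u) (trace [L0g0, L0g1, L0g2, L0g3, L0g0, L0g0, L0g0, L0g3, L0g2, L0g2, L0g3, L0g3, L0g2, L0g1, L0g2, L0g2] u)) 9 512 = true := by decide +kernel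
theorem L1eq3_c2 : allPow 4095 (fun u => Nat.beq (L1g3 u) (trace [L0g0, L0g1, L0g2, L0g3, L0g0, L0g0, L0g0, L0g3, L0g2, L0g2, L0g3, L0g3, L0g2, L0g1, L0g2, L0g2] u)) 9 1024 = true := by decide +kernel
theorem L1eq3_c3 : allPow 4095 (fun u => Nat.beq (L1g3 u) (trace [L0g0, L0g1, L0g2, L0g3, L0g0, L0g0, L0g0, L0g3, L0g2, L0g2, L0g3, L0g3, L0g2, L0g1, L0g2, L0g2] u)) 9 1536 = true := by decide +kernel
theorem L1eq3_c4 : allPow 4095 (fun u => Nat.beq (L1g3 u) (trace [L0g0, L0g1, L0g2, L0g3, L0g0, L0g0, L0g0, L0g3, L0g2, L0g2, L0g3, L0g3, L0g2, L0g1, L0g2, L0g2] u)) 9 2048 = true := by decide +kernel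
theorem L1eq3_c5 : allPow 4095 (fun u => Nat.beq (L1g3 u) (trace [L0g0, L0g1, L0g2, L0g3, L0g0, L0g0, L0g0, L0g3, L0g2, L0g2, L0g3, L0g3, L0g2, L0g1, L0g2, L0g2] u)) 9 2560 = true := by decide +kernel
theorem L1eq3_c6 : allPow 4095 (fun u => Nat.beq (L1g3 u) (trace [L0g0, L0g1, L0g2, L0g3, L0g0, L0g0, L0g0, L0g3, L0g2, L0g2, L0g3, L0g3, L0g2, L0g1, L0g2, L0g2] u)) 9 3072 = true := by decide +kernel
theorem L1eq3_c7 : allPow 4095 (fun u => Nat.beq (L1g3 u) (trace [L0g0, L0g1, L0g2, L0g3, L0g0, L0g0, L0g0, L0g3, L0g2, L0g2, L0g3, L0g3, L0g2, L0g1, L0g2, L0g2] u)) 9 3584 = true := by decide +kernel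
theorem L1eq3 : allBelow 12 4095 (fun u => Nat.beq (L1g3 u) (trace [L0g0, L0g1, L0g2, L0g3, L0g0, L0g0, L0g0, L0g3, L0g2, L0g2, L0g3, L0g3, L0g2, L0g1, L0g2, L0g2] u)) = true :=
  allBelow_of_upto (hi := 4096)
    (Upto.trans (mid := 2048) (Upto.trans (mid := 1024) (Upto.trans (mid := 512) ((Upto.of_pow L1eq3_c0 (Nat.le_refl _)) : Upto _ _ 0 (0 + 2 ^ 9))
    ((Upto.of_pow L1eq3_c1 (Nat.le_refl _)) : Upto _ _ 512 (512 + 2 ^ 9)))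
    (Upto.trans (mid := 1536) ((Upto.of_pow L1eq3_c2 (Nat.le_refl _)) : Upto _ _ 1024 (1024 + 2 ^ 9))
    ((Upto.of_pow L1eq3_c3 (Nat.le_refl _)) : Upto _ _ 1536 (1536 + 2 ^ 9))))
    (Upto.trans (mid := 3072) (Upto.trans (mid := 2560) ((Upto.of_pow L1eq3_c4 (Nat.le_refl _)) : Upto _ _ 2048 (2048 + 2 ^ 9))
    ((Upto.of_pow L1eq3_c5 (Nat.le_refl _)) : Upto _ _ 2560 (2560 + 2 ^ 9)))
    (Upto.trans (mid := 3584) ((Upto.of_pow L1eq3_c6 (Nat.le_refl _)) : Upto _ _ 3072 (3072 + 2 ^ 9))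
    ((Upto.of_pow L1eq3_c7 (Nat.le_refl _)) : Upto _ _ 3584 (3584 + 2 ^ 9)))))
    (by decide) (by decide)

theorem L1inv0 : allBelow 12 4095 (invStep L1g0 L1g4 4095) = true := by decide +kernel

theorem L1inv1 : allBelow 12 4095 (invStep L1g1 L1g5 4095) = true := by decide +kernel

theorem L1inv2 : allBelow 12 4095 (invStep L1g2 L1g6 4095) = true := by decide +kernel

theorem L1inv3 : allBelow 12 4095 (invStep L1g3 L1g7 4095) = true := by decide +kernel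

end CfsgLib.SporRecognition.Cert.SuzG24V
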