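import Cfsg.Agent.Lib.SporRecognition.Cert.SuzG24V.LowerT

/-! Generated coset-enumeration certificate: Suz over <nonzero vectors of GF(4)^6>, 4095 cosets. -/

set_option autoImplicit false
set_option maxRecDepth 20000
set_option linter.all false
set_option Elab.async false

namespace CfsgLib.SporRecognition.Cert.SuzG24V

open CfsgLib.SporRecognition.CosetCert

theorem L2eq0_c0 : allPow 4095 (fun u => Nat.beq (L2g0 u) (trace [L1g4, L1g2, L1g0, L1g2, L1g4, L1g2, L1g4] u)) 10 0 = true := by decide +kernel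
theorem L2eq0_c1 : allPow 4095 (fun u => Nat.beq (L2g0 u) (trace [L1g4, L1g2, L1g0, L1g2, L1g4, L1g2, L1g4] u)) 10 1024 = true := by decide +kernel
theorem L2eq0_c2 : allPow 4095 (fun u => Nat.beq (L2g0 u) (trace [L1g4, L1g2, L1g0, L1g2, L1g4, L1g2, L1g4] u)) 10 2048 = true := by decide +kernel
theorem L2eq0_c3 : allPow 4095 (fun u => Nat.beq (L2g0 u) (trace [L1g4, L1g2, L1g0, L1g2, L1g4, L1g2, L1g4] u)) 10 3072 = true := by decide +kernel
theorem L2eq0 : allBelow 12 4095 (fun u => Nat.beq (L2g0 u) (trace [L1g4, L1g2, L1g0, L1g2, L1g4, L1g2, L1g4] u)) = true :=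
  allBelow_of_upto (hi := 4096)
    (Upto.trans (mid := 2048) (Upto.trans (mid := 1024) ((Upto.of_pow L2eq0_c0 (Nat.le_refl _)) : Upto _ _ 0 (0 + 2 ^ 10))
    ((Upto.of_pow L2eq0_c1 (Nat.le_refl _)) : Upto _ _ 1024 (1024 + 2 ^ 10)))
    (Upto.trans (mid := 3072) ((Upto.of_pow L2eq0_c2 (Nat.le_refl _)) : Upto _ _ 2048 (2048 + 2 ^ 10))
    ((Upto.of_pow L2eq0_c3 (Nat.le_refl _)) : Upto _ _ 3072 (3072 + 2 ^ 10))))
    (by decide) (by decide)

theorem L2eq1_c0 : allPow 4095 (fun u => Nat.beq (L2g1 u) (trace [L1g0, L1g1, L1g2, L1g3, L1g2, L1g0] u)) 11 0 = true := by decide +kernel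
theorem L2eq1_c1 : allPow 4095 (fun u => Nat.beq (L2g1 u) (trace [L1g0, L1g1, L1g2, L1g3, L1g2, L1g0] u)) 11 2048 = true := by decide +kernel
theorem L2eq1 : allBelow 12 4095 (fun u => Nat.beq (L2g1 u) (trace [L1g0, L1g1, L1g2, L1g3, L1g2, L1g0] u)) = true :=
  allBelow_of_upto (hi := 4096)
    (Upto.trans (mid := 2048) ((Upto.of_pow L2eq1_c0 (Nat.le_refl _)) : Upto _ _ 0 (0 + 2 ^ 11))
    ((Upto.of_pow L2eq1_c1 (Nat.le_refl _)) : Upto _ _ 2048 (2048 + 2 ^ 11)))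
    (by decide) (by decide)

theorem L2eq2_c0 : allPow 4095 (fun u => Nat.beq (L2g2 u) (trace [L1g4, L1g4, L1g4, L1g4, L1g4] u)) 11 0 = true := by decide +kernel
theorem L2eq2_c1 : allPow 4095 (fun u => Nat.beq (L2g2 u) (trace [L1g4, L1g4, L1g4, L1g4, L1g4] u)) 11 2048 = true := by decide +kernel
theorem L2eq2 : allBelow 12 4095 (fun u => Nat.beq (L2g2 u) (trace [L1g4, L1g4, L1g4, L1g4, L1g4] u)) = true :=
  allBelow_of_upto (hi := 4096)
    (Upto.trans (mid := 2048) ((Upto.of_pow L2eq2_c0 (Nat.le_refl _)) : Upto _ _ 0 (0 + 2 ^ 11))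
    ((Upto.of_pow L2eq2_c1 (Nat.le_refl _)) : Upto _ _ 2048 (2048 + 2 ^ 11)))
    (by decide) (by decide)

theorem L2eq3_c0 : allPow 4095 (fun u => Nat.beq (L2g3 u) (trace [L1g7, L1g4, L1g3, L1g2, L1g0, L1g6] u)) 11 0 = true := by decide +kernel
theorem L2eq3_c1 : allPow 4095 (fun u => Nat.beq (L2g3 u) (trace [L1g7, L1g4, L1g3, L1g2, L1g0, L1g6] u)) 11 2048 = true := by decide +kernel
theorem L2eq3 : allBelow 12 4095 (fun u => Nat.beq (L2g3 u) (trace [L1g7, L1g4, L1g3, L1g2, L1g0, L1g6] u)) = true :=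
  allBelow_of_upto (hi := 4096)
    (Upto.trans (mid := 2048) ((Upto.of_pow L2eq3_c0 (Nat.le_refl _)) : Upto _ _ 0 (0 + 2 ^ 11))
    ((Upto.of_pow L2eq3_c1 (Nat.le_refl _)) : Upto _ _ 2048 (2048 + 2 ^ 11)))
    (by decide) (by decide)

theorem L2eq4_c0 : allPow 4095 (fun u => Nat.beq (L2g4 u) (trace [L1g2, L1g3, L1g2, L1g3] u)) 11 0 = true := by decide +kernel
theorem L2eq4_c1 : allPow 4095 (fun u => Nat.beq (L2g4 u) (trace [L1g2, L1g3, L1g2, L1g3] u)) 11 2048 = true := by decide +kernel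
theorem L2eq4 : allBelow 12 4095 (fun u => Nat.beq (L2g4 u) (trace [L1g2, L1g3, L1g2, L1g3] u)) = true :=
  allBelow_of_upto (hi := 4096)
    (Upto.trans (mid := 2048) ((Upto.of_pow L2eq4_c0 (Nat.le_refl _)) : Upto _ _ 0 (0 + 2 ^ 11))
    ((Upto.of_pow L2eq4_c1 (Nat.le_refl _)) : Upto _ _ 2048 (2048 + 2 ^ 11)))
    (by decide) (by decide)

theorem L2eq5_c0 : allPow 4095 (fun u => Nat.beq (L2g5 u) (trace [L1g2, L1g3, L1g1, L1g6, L1g3] u)) 11 0 = true := by decide +kernel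
theorem L2eq5_c1 : allPow 4095 (fun u => Nat.beq (L2g5 u) (trace [L1g2, L1g3, L1g1, L1g6, L1g3] u)) 11 2048 = true := by decide +kernel
theorem L2eq5 : allBelow 12 4095 (fun u => Nat.beq (L2g5 u) (trace [L1g2, L1g3, L1g1, L1g6, L1g3] u)) = true :=
  allBelow_of_upto (hi := 4096)
    (Upto.trans (mid := 2048) ((Upto.of_pow L2eq5_c0 (Nat.le_refl _)) : Upto _ _ 0 (0 + 2 ^ 11))
    ((Upto.of_pow L2eq5_c1 (Nat.le_refl _)) : Upto _ _ 2048 (2048 + 2 ^ 11)))
    (by decide) (by decide)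

theorem L2eq6_c0 : allPow 4095 (fun u => Nat.beq (L2g6 u) (trace [L1g0, L1g3, L1g1, L1g0, L1g0, L1g3] u)) 11 0 = true := by decide +kernel
theorem L2eq6_c1 : allPow 4095 (fun u => Nat.beq (L2g6 u) (trace [L1g0, L1g3, L1g1, L1g0, L1g0, L1g3] u)) 11 2048 = true := by decide +kernel
theorem L2eq6 : allBelow 12 4095 (fun u => Nat.beq (L2g6 u) (trace [L1g0, L1g3, L1g1, L1g0, L1g0, L1g3] u)) = true :=
  allBelow_of_upto (hi := 4096)
    (Upto.trans (mid := 2048) ((Upto.of_pow L2eq6_c0 (Nat.le_refl _)) : Upto _ _ 0 (0 + 2 ^ 11))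
    ((Upto.of_pow L2eq6_c1 (Nat.le_refl _)) : Upto _ _ 2048 (2048 + 2 ^ 11)))
    (by decide) (by decide)

theorem L2eq7_c0 : allPow 4095 (fun u => Nat.beq (L2g7 u) (trace [L1g7, L1g2, L1g7, L1g5, L1g7, L1g5] u)) 11 0 = true := by decide +kernel
theorem L2eq7_c1 : allPow 4095 (fun u => Nat.beq (L2g7 u) (trace [L1g7, L1g2, L1g7, L1g5, L1g7, L1g5] u)) 11 2048 = true := by decide +kernel
theorem L2eq7 : allBelow 12 4095 (fun u => Nat.beq (L2g7 u) (trace [L1g7, L1g2, L1g7, L1g5, L1g7, L1g5] u)) = true :=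
  allBelow_of_upto (hi := 4096)
    (Upto.trans (mid := 2048) ((Upto.of_pow L2eq7_c0 (Nat.le_refl _)) : Upto _ _ 0 (0 + 2 ^ 11))
    ((Upto.of_pow L2eq7_c1 (Nat.le_refl _)) : Upto _ _ 2048 (2048 + 2 ^ 11)))
    (by decide) (by decide)

theorem L2eq8_c0 : allPow 4095 (fun u => Nat.beq (L2g8 u) (trace [L1g3, L1g4, L1g2, L1g2, L1g3, L1g4, L1g4] u)) 10 0 = true := by decide +kernel
theorem L2eq8_c1 : allPow 4095 (fun u => Nat.beq (L2g8 u) (trace [L1g3, L1g4, L1g2, L1g2, L1g3, L1g4, L1g4] u)) 10 1024 = true := by decide +kernel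
theorem L2eq8_c2 : allPow 4095 (fun u => Nat.beq (L2g8 u) (trace [L1g3, L1g4, L1g2, L1g2, L1g3, L1g4, L1g4] u)) 10 2048 = true := by decide +kernel
theorem L2eq8_c3 : allPow 4095 (fun u => Nat.beq (L2g8 u) (trace [L1g3, L1g4, L1g2, L1g2, L1g3, L1g4, L1g4] u)) 10 3072 = true := by decide +kernel
theorem L2eq8 : allBelow 12 4095 (fun u => Nat.beq (L2g8 u) (trace [L1g3, L1g4, L1g2, L1g2, L1g3, L1g4, L1g4] u)) = true :=
  allBelow_of_upto (hi := 4096)
    (Upto.trans (mid := 2048) (Upto.trans (mid := 1024) ((Upto.of_pow L2eq8_c0 (Nat.le_refl _)) : Upto _ _ 0 (0 + 2 ^ 10))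
    ((Upto.of_pow L2eq8_c1 (Nat.le_refl _)) : Upto _ _ 1024 (1024 + 2 ^ 10)))
    (Upto.trans (mid := 3072) ((Upto.of_pow L2eq8_c2 (Nat.le_refl _)) : Upto _ _ 2048 (2048 + 2 ^ 10))
    ((Upto.of_pow L2eq8_c3 (Nat.le_refl _)) : Upto _ _ 3072 (3072 + 2 ^ 10))))
    (by decide) (by decide)

theorem L2eq9_c0 : allPow 4095 (fun u => Nat.beq (L2g9 u) (trace [L1g1, L1g6, L1g6] u)) 11 0 = true := by decide +kernel
theorem L2eq9_c1 : allPow 4095 (fun u => Nat.beq (L2g9 u) (trace [L1g1, L1g6, L1g6] u)) 11 2048 = true := by decide +kernel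
theorem L2eq9 : allBelow 12 4095 (fun u => Nat.beq (L2g9 u) (trace [L1g1, L1g6, L1g6] u)) = true :=
  allBelow_of_upto (hi := 4096)
    (Upto.trans (mid := 2048) ((Upto.of_pow L2eq9_c0 (Nat.le_refl _)) : Upto _ _ 0 (0 + 2 ^ 11))
    ((Upto.of_pow L2eq9_c1 (Nat.le_refl _)) : Upto _ _ 2048 (2048 + 2 ^ 11)))
    (by decide) (by decide)

theorem L2eq10_c0 : allPow 4095 (fun u => Nat.beq (L2g10 u) (trace [L1g3, L1g0, L1g6, L1g3, L1g0, L1g7, L1g5] u)) 10 0 = true := by decide +kernel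
theorem L2eq10_c1 : allPow 4095 (fun u => Nat.beq (L2g10 u) (trace [L1g3, L1g0, L1g6, L1g3, L1g0, L1g7, L1g5] u)) 10 1024 = true := by decide +kernel
theorem L2eq10_c2 : allPow 4095 (fun u => Nat.beq (L2g10 u) (trace [L1g3, L1g0, L1g6, L1g3, L1g0, L1g7, L1g5] u)) 10 2048 = true := by decide +kernel
theorem L2eq10_c3 : allPow 4095 (fun u => Nat.beq (L2g10 u) (trace [L1g3, L1g0, L1g6, L1g3, L1g0, L1g7, L1g5] u)) 10 3072 = true := by decide +kernel
theorem L2eq10 : allBelow 12 4095 (fun u => Nat.beq (L2g10 u) (trace [L1g3, L1g0, L1g6, L1g3, L1g0, L1g7, L1g5] u)) = true :=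
  allBelow_of_upto (hi := 4096)
    (Upto.trans (mid := 2048) (Upto.trans (mid := 1024) ((Upto.of_pow L2eq10_c0 (Nat.le_refl _)) : Upto _ _ 0 (0 + 2 ^ 10))
    ((Upto.of_pow L2eq10_c1 (Nat.le_refl _)) : Upto _ _ 1024 (1024 + 2 ^ 10)))
    (Upto.trans (mid := 3072) ((Upto.of_pow L2eq10_c2 (Nat.le_refl _)) : Upto _ _ 2048 (2048 + 2 ^ 10))
    ((Upto.of_pow L2eq10_c3 (Nat.le_refl _)) : Upto _ _ 3072 (3072 + 2 ^ 10))))
    (by decide) (by decide)

theorem L2inv0 : allBelow 12 4095 (invStep L2g0 L2g11 4095) = true := by decide +kernel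

theorem L2inv1 : allBelow 12 4095 (invStep L2g1 L2g12 4095) = true := by decide +kernel

theorem L2inv2 : allBelow 12 4095 (invStep L2g2 L2g13 4095) = true := by decide +kernel

theorem L2inv3 : allBelow 12 4095 (invStep L2g3 L2g14 4095) = true := by decide +kernel

theorem L2inv4 : allBelow 12 4095 (invStep L2g4 L2g15 4095) = true := by decide +kernel

theorem L2inv5 : allBelow 12 4095 (invStep L2g5 L2g16 4095) = true := by decide +kernel

theorem L2inv6 : allBelow 12 4095 (invStep L2g6 L2g17 4095) = true := by decide +kernel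

theorem L2inv7 : allBelow 12 4095 (invStep L2g7 L2g18 4095) = true := by decide +kernel

theorem L2inv8 : allBelow 12 4095 (invStep L2g8 L2g19 4095) = true := by decide +kernel

theorem L2inv9 : allBelow 12 4095 (invStep L2g9 L2g20 4095) = true := by decide +kernel

theorem L2inv10 : allBelow 12 4095 (invStep L2g10 L2g21 4095) = true := by decide +kernel

end CfsgLib.SporRecognition.Cert.SuzG24V
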