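import Cfsg.Agent.Lib.SporRecognition.Cert.SuzG24V.LowerT

/-! Generated coset-enumeration certificate: Suz over <nonzero vectors of GF(4)^6>, 4095 cosets. -/

set_option autoImplicit false
set_option maxRecDepth 20000
set_option linter.all false
set_option Elab.async false

namespace CfsgLib.SporRecognition.Cert.SuzG24V

open CfsgLib.SporRecognition.CosetCert

theorem L3eq0_c0 : allPow 4095 (fun u => Nat.beq (L3g0 u) (trace [L2g3, L2g18, L2g12, L2g11] u)) 11 0 = true := by decide +kernel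
theorem L3eq0_c1 : allPow 4095 (fun u => Nat.beq (L3g0 u) (trace [L2g3, L2g18, L2g12, L2g11] u)) 11 2048 = true := by decide +kernel
theorem L3eq0 : allBelow 12 4095 (fun u => Nat.beq (L3g0 u) (trace [L2g3, L2g18, L2g12, L2g11] u)) = true :=
  allBelow_of_upto (hi := 4096)
    (Upto.trans (mid := 2048) ((Upto.of_pow L3eq0_c0 (Nat.le_refl _)) : Upto _ _ 0 (0 + 2 ^ 11))
    ((Upto.of_pow L3eq0_c1 (Nat.le_refl _)) : Upto _ _ 2048 (2048 + 2 ^ 11)))
    (by decide) (by decide)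

theorem L3eq1_c0 : allPow 4095 (fun u => Nat.beq (L3g1 u) (trace [L2g8, L2g14, L2g11] u)) 11 0 = true := by decide +kernel
theorem L3eq1_c1 : allPow 4095 (fun u => Nat.beq (L3g1 u) (trace [L2g8, L2g14, L2g11] u)) 11 2048 = true := by decide +kernel
theorem L3eq1 : allBelow 12 4095 (fun u => Nat.beq (L3g1 u) (trace [L2g8, L2g14, L2g11] u)) = true :=
  allBelow_of_upto (hi := 4096)
    (Upto.trans (mid := 2048) ((Upto.of_pow L3eq1_c0 (Nat.le_refl _)) : Upto _ _ 0 (0 + 2 ^ 11))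
    ((Upto.of_pow L3eq1_c1 (Nat.le_refl _)) : Upto _ _ 2048 (2048 + 2 ^ 11)))
    (by decide) (by decide)

theorem L3eq2_c0 : allPow 4095 (fun u => Nat.beq (L3g2 u) (trace [L2g1, L2g17, L2g17, L2g12] u)) 11 0 = true := by decide +kernel
theorem L3eq2_c1 : allPow 4095 (fun u => Nat.beq (L3g2 u) (trace [L2g1, L2g17, L2g17, L2g12] u)) 11 2048 = true := by decide +kernel
theorem L3eq2 : allBelow 12 4095 (fun u => Nat.beq (L3g2 u) (trace [L2g1, L2g17, L2g17, L2g12] u)) = true :=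
  allBelow_of_upto (hi := 4096)
    (Upto.trans (mid := 2048) ((Upto.of_pow L3eq2_c0 (Nat.le_refl _)) : Upto _ _ 0 (0 + 2 ^ 11))
    ((Upto.of_pow L3eq2_c1 (Nat.le_refl _)) : Upto _ _ 2048 (2048 + 2 ^ 11)))
    (by decide) (by decide)

theorem L3eq3_c0 : allPow 4095 (fun u => Nat.beq (L3g3 u) (trace [L2g0, L2g6, L2g8, L2g16, L2g12] u)) 11 0 = true := by decide +kernel
theorem L3eq3_c1 : allPow 4095 (fun u => Nat.beq (L3g3 u) (trace [L2g0, L2g6, L2g8, L2g16, L2g12] u)) 11 2048 = true := by decide +kernel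
theorem L3eq3 : allBelow 12 4095 (fun u => Nat.beq (L3g3 u) (trace [L2g0, L2g6, L2g8, L2g16, L2g12] u)) = true :=
  allBelow_of_upto (hi := 4096)
    (Upto.trans (mid := 2048) ((Upto.of_pow L3eq3_c0 (Nat.le_refl _)) : Upto _ _ 0 (0 + 2 ^ 11))
    ((Upto.of_pow L3eq3_c1 (Nat.le_refl _)) : Upto _ _ 2048 (2048 + 2 ^ 11)))
    (by decide) (by decide)

theorem L3eq4_c0 : allPow 4095 (fun u => Nat.beq (L3g4 u) (trace [L2g3, L2g8, L2g11] u)) 11 0 = true := by decide +kernel
theorem L3eq4_c1 : allPow 4095 (fun u => Nat.beq (L3g4 u) (trace [L2g3, L2g8, L2g11] u)) 11 2048 = true := by decide +kernel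
theorem L3eq4 : allBelow 12 4095 (fun u => Nat.beq (L3g4 u) (trace [L2g3, L2g8, L2g11] u)) = true :=
  allBelow_of_upto (hi := 4096)
    (Upto.trans (mid := 2048) ((Upto.of_pow L3eq4_c0 (Nat.le_refl _)) : Upto _ _ 0 (0 + 2 ^ 11))
    ((Upto.of_pow L3eq4_c1 (Nat.le_refl _)) : Upto _ _ 2048 (2048 + 2 ^ 11)))
    (by decide) (by decide)

theorem L3eq5_c0 : allPow 4095 (fun u => Nat.beq (L3g5 u) (trace [L2g6, L2g8, L2g10, L2g19, L2g16] u)) 11 0 = true := by decide +kernel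
theorem L3eq5_c1 : allPow 4095 (fun u => Nat.beq (L3g5 u) (trace [L2g6, L2g8, L2g10, L2g19, L2g16] u)) 11 2048 = true := by decide +kernel
theorem L3eq5 : allBelow 12 4095 (fun u => Nat.beq (L3g5 u) (trace [L2g6, L2g8, L2g10, L2g19, L2g16] u)) = true :=
  allBelow_of_upto (hi := 4096)
    (Upto.trans (mid := 2048) ((Upto.of_pow L3eq5_c0 (Nat.le_refl _)) : Upto _ _ 0 (0 + 2 ^ 11))
    ((Upto.of_pow L3eq5_c1 (Nat.le_refl _)) : Upto _ _ 2048 (2048 + 2 ^ 11)))
    (by decide) (by decide)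

theorem L3eq6_c0 : allPow 4095 (fun u => Nat.beq (L3g6 u) (trace [L2g1, L2g14, L2g21] u)) 11 0 = true := by decide +kernel
theorem L3eq6_c1 : allPow 4095 (fun u => Nat.beq (L3g6 u) (trace [L2g1, L2g14, L2g21] u)) 11 2048 = true := by decide +kernel
theorem L3eq6 : allBelow 12 4095 (fun u => Nat.beq (L3g6 u) (trace [L2g1, L2g14, L2g21] u)) = true :=
  allBelow_of_upto (hi := 4096)
    (Upto.trans (mid := 2048) ((Upto.of_pow L3eq6_c0 (Nat.le_refl _)) : Upto _ _ 0 (0 + 2 ^ 11))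
    ((Upto.of_pow L3eq6_c1 (Nat.le_refl _)) : Upto _ _ 2048 (2048 + 2 ^ 11)))
    (by decide) (by decide)

theorem L3eq7_c0 : allPow 4095 (fun u => Nat.beq (L3g7 u) (trace [L2g6, L2g8, L2g4, L2g19, L2g17] u)) 11 0 = true := by decide +kernel
theorem L3eq7_c1 : allPow 4095 (fun u => Nat.beq (L3g7 u) (trace [L2g6, L2g8, L2g4, L2g19, L2g17] u)) 11 2048 = true := by decide +kernel
theorem L3eq7 : allBelow 12 4095 (fun u => Nat.beq (L3g7 u) (trace [L2g6, L2g8, L2g4, L2g19, L2g17] u)) = true :=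
  allBelow_of_upto (hi := 4096)
    (Upto.trans (mid := 2048) ((Upto.of_pow L3eq7_c0 (Nat.le_refl _)) : Upto _ _ 0 (0 + 2 ^ 11))
    ((Upto.of_pow L3eq7_c1 (Nat.le_refl _)) : Upto _ _ 2048 (2048 + 2 ^ 11)))
    (by decide) (by decide)

theorem L3eq8_c0 : allPow 4095 (fun u => Nat.beq (L3g8 u) (trace [L2g1, L2g10, L2g14] u)) 11 0 = true := by decide +kernel
theorem L3eq8_c1 : allPow 4095 (fun u => Nat.beq (L3g8 u) (trace [L2g1, L2g10, L2g14] u)) 11 2048 = true := by decide +kernel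
theorem L3eq8 : allBelow 12 4095 (fun u => Nat.beq (L3g8 u) (trace [L2g1, L2g10, L2g14] u)) = true :=
  allBelow_of_upto (hi := 4096)
    (Upto.trans (mid := 2048) ((Upto.of_pow L3eq8_c0 (Nat.le_refl _)) : Upto _ _ 0 (0 + 2 ^ 11))
    ((Upto.of_pow L3eq8_c1 (Nat.le_refl _)) : Upto _ _ 2048 (2048 + 2 ^ 11)))
    (by decide) (by decide)

theorem L3eq9_c0 : allPow 4095 (fun u => Nat.beq (L3g9 u) (trace [L2g10, L2g5, L2g17] u)) 11 0 = true := by decide +kernel
theorem L3eq9_c1 : allPow 4095 (fun u => Nat.beq (L3g9 u) (trace [L2g10, L2g5, L2g17] u)) 11 2048 = true := by decide +kernel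
theorem L3eq9 : allBelow 12 4095 (fun u => Nat.beq (L3g9 u) (trace [L2g10, L2g5, L2g17] u)) = true :=
  allBelow_of_upto (hi := 4096)
    (Upto.trans (mid := 2048) ((Upto.of_pow L3eq9_c0 (Nat.le_refl _)) : Upto _ _ 0 (0 + 2 ^ 11))
    ((Upto.of_pow L3eq9_c1 (Nat.le_refl _)) : Upto _ _ 2048 (2048 + 2 ^ 11)))
    (by decide) (by decide)

theorem L3eq10_c0 : allPow 4095 (fun u => Nat.beq (L3g10 u) (trace [L2g3, L2g5, L2g17, L2g12] u)) 11 0 = true := by decide +kernel
theorem L3eq10_c1 : allPow 4095 (fun u => Nat.beq (L3g10 u) (trace [L2g3, L2g5, L2g17, L2g12] u)) 11 2048 = true := by decide +kernel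
theorem L3eq10 : allBelow 12 4095 (fun u => Nat.beq (L3g10 u) (trace [L2g3, L2g5, L2g17, L2g12] u)) = true :=
  allBelow_of_upto (hi := 4096)
    (Upto.trans (mid := 2048) ((Upto.of_pow L3eq10_c0 (Nat.le_refl _)) : Upto _ _ 0 (0 + 2 ^ 11))
    ((Upto.of_pow L3eq10_c1 (Nat.le_refl _)) : Upto _ _ 2048 (2048 + 2 ^ 11)))
    (by decide) (by decide)

theorem L3inv0 : allBelow 12 4095 (invStep L3g0 L3g11 4095) = true := by decide +kernel

theorem L3inv1 : allBelow 12 4095 (invStep L3g1 L3g12 4095) = true := by decide +kernel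

theorem L3inv2 : allBelow 12 4095 (invStep L3g2 L3g13 4095) = true := by decide +kernel

theorem L3inv3 : allBelow 12 4095 (invStep L3g3 L3g14 4095) = true := by decide +kernel

theorem L3inv4 : allBelow 12 4095 (invStep L3g4 L3g15 4095) = true := by decide +kernel

theorem L3inv5 : allBelow 12 4095 (invStep L3g5 L3g16 4095) = true := by decide +kernel

theorem L3inv6 : allBelow 12 4095 (invStep L3g6 L3g17 4095) = true := by decide +kernel

theorem L3inv7 : allBelow 12 4095 (invStep L3g7 L3g18 4095) = true := by decide +kernel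

theorem L3inv8 : allBelow 12 4095 (invStep L3g8 L3g19 4095) = true := by decide +kernel

theorem L3inv9 : allBelow 12 4095 (invStep L3g9 L3g20 4095) = true := by decide +kernel

theorem L3inv10 : allBelow 12 4095 (invStep L3g10 L3g21 4095) = true := by decide +kernel

end CfsgLib.SporRecognition.Cert.SuzG24V
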